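import Groth.Agent.H14.DMCrit.Scheme
import Groth.Agent.Lib.AlgSpFormal.Charts
import Groth.Agent.Lib.AlgStack.Stabilizer
import Groth.Agent.H14.Sep.Lft
import Groth.Agent.H14.Sep.Main2

/-!
# The infinitesimal criterion for a morphism to be DM
-/

set_option autoImplicit false
set_option backward.isDefEq.respectTransparency false
set_option backward.isDefEq.respectTransparency.types false

universe u

open CategoryTheory CategoryTheory.Limits AlgebraicGeometry Opposite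

noncomputable section

namespace Groth.Agent.H14.DMCrit

open Groth.Agent.Lib.AlgStack
open Groth.Agent.Lib.AlgSpace
open BasedBasic Yoneda FibProd
open FibCat (IsEquivOver IsFibGrpd fp fpFst fpSnd overCat toSelf diag)
open AlgSt (ofSp ofSpMap ofOverCat RepByAlgSpWith IsAlgStack)
open AlgSp (Sp yon IsAlgSpace RepWith LocP)

variable {S : Scheme.{u}} {𝒳 𝒴 : AlgSt.Cat S}

section Sections

variable {𝒲 𝒵 : AlgSt.Cat S} {T : Over S} {z : overCat T ⥤ᵇ 𝒵} {d : 𝒲 ⥤ᵇ 𝒵} {G : Sp S}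
  {E : ofSp G ⥤ᵇ fp z d}

/-- The functor of the structure map of a representing space. -/
def fstIso (E : ofSp G ⥤ᵇ fp z d) :
    BasedFunctor.comp (BasedFunctor.comp E (fpFst z d)) (ofOverCat T) ≅
      ofSpMap (AlgSt.spMapOfOver (BasedFunctor.comp E (fpFst z d))) :=
  OfPsh.isoOfPshMap _ ≪≫
    eqToIso (congrArg ofSpMap (Space.spMapOfOver_eq_spHom (BasedFunctor.comp E (fpFst z d))).symm)

/-- Sections with the same image in the base are equal if vertical first components lift. -/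
theorem sec_eq (hE : IsEquivOver E) {B : Over S} {x₁ x₂ : G.obj.obj (op B)}
    (h : (AlgSt.spMapOfOver (BasedFunctor.comp E (fpFst z d))).hom.app (op B) x₁ =
      (AlgSt.spMapOfOver (BasedFunctor.comp E (fpFst z d))).hom.app (op B) x₂)
    (hl : ∀ g : (E.obj ⟨B, x₁⟩).obj.fst ⟶ (E.obj ⟨B, x₂⟩).obj.fst,
      (overCat T).p.IsHomLift (𝟙 B) g → ∃ m : E.obj ⟨B, x₁⟩ ⟶ E.obj ⟨B, x₂⟩, m.hom.fst = g) : x₁ = x₂ := by
  let γ := AlgSt.spMapOfOver (BasedFunctor.comp E (fpFst z d))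
  have := BasedBasic.IsEquivOver.full hE
  have := BasedBasic.IsEquivOver.full (Rep.isEquivOver_ofOverCat T)
  let a : (ofSp G).obj := ⟨B, x₁⟩
  let b : (ofSp G).obj := ⟨B, x₂⟩
  let g : (ofSpMap γ).obj a ⟶ (ofSpMap γ).obj b := ⟨𝟙 _, by
    change ((yon S).obj T).obj.map _ (γ.hom.app (op B) x₂) = γ.hom.app (op B) x₁
    rw [op_id]
    erw [CategoryTheory.Functor.map_id]
    exact h.symm⟩
  obtain ⟨k, hk⟩ := (ofOverCat T).toFunctor.map_surjective
    ((appIso (fstIso E) a).hom ≫ g ≫ (appIso (fstIso E) b).inv)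
  have hkl : (overCat T).p.IsHomLift (𝟙 B) k := by
    have i1 : (ofSp ((yon S).obj T)).p.IsHomLift (𝟙 B) (appIso (fstIso E) a).hom := appIso_isHomLift (fstIso E) a
    have i2 : (ofSp ((yon S).obj T)).p.IsHomLift (𝟙 B) (appIso (fstIso E) b).hom := appIso_isHomLift (fstIso E) b
    have i3 : (ofSp ((yon S).obj T)).p.IsHomLift (𝟙 B) (appIso (fstIso E) b).inv := IsHomLift.lift_id_inv _ _ _
    have i4 : (ofSp ((yon S).obj T)).p.IsHomLift (𝟙 B) g := IsHomLift.map (ofSp ((yon S).obj T)).p g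
    refine ((ofOverCat T).isHomLift_iff (𝟙 B) k).1 ?_
    rw [hk]; infer_instance
  obtain ⟨m', hm'⟩ := hl k hkl
  obtain ⟨m, rfl⟩ := E.toFunctor.map_surjective m'
  have hn := (fstIso E).hom.toNatTrans.naturality m
  have hmg : (ofSpMap γ).map m = g := by
    rw [← cancel_epi (appIso (fstIso E) a).hom]
    refine hn.symm.trans ?_
    change (ofOverCat T).map (E.map m).hom.fst ≫ (appIso (fstIso E) b).hom = _
    rw [hm', hk, Category.assoc, Category.assoc, Iso.inv_hom_id, Category.comp_id]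
  have h3 : m.hom = 𝟙 _ := congrArg (fun k => k.hom) hmg
  have h4 := m.map_sec
  rw [h3, op_id] at h4
  erw [CategoryTheory.Functor.map_id] at h4
  exact h4.symm

/-- Sections with vertically isomorphic first components have the same image in the base. -/
theorem map_eq_of_vertical {B : Over S} {x₁ x₂ : G.obj.obj (op B)}
    (g : (E.obj ⟨B, x₁⟩).obj.fst ⟶ (E.obj ⟨B, x₂⟩).obj.fst) (hg : (overCat T).p.IsHomLift (𝟙 B) g) :
    (AlgSt.spMapOfOver (BasedFunctor.comp E (fpFst z d))).hom.app (op B) x₁ =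
      (AlgSt.spMapOfOver (BasedFunctor.comp E (fpFst z d))).hom.app (op B) x₂ := by
  let γ := AlgSt.spMapOfOver (BasedFunctor.comp E (fpFst z d))
  let a : (ofSp G).obj := ⟨B, x₁⟩
  let b : (ofSp G).obj := ⟨B, x₂⟩
  let k : (ofSpMap γ).obj a ⟶ (ofSpMap γ).obj b :=
    (appIso (fstIso E) a).inv ≫ (ofOverCat T).map g ≫ (appIso (fstIso E) b).hom
  have hk : k.hom = 𝟙 B := by
    have i1 : (ofSp ((yon S).obj T)).p.IsHomLift (𝟙 B) (appIso (fstIso E) a).hom := appIso_isHomLift (fstIso E) a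
    have i1' : (ofSp ((yon S).obj T)).p.IsHomLift (𝟙 B) (appIso (fstIso E) a).inv := IsHomLift.lift_id_inv _ _ _
    have i2 : (ofSp ((yon S).obj T)).p.IsHomLift (𝟙 B) (appIso (fstIso E) b).hom := appIso_isHomLift (fstIso E) b
    have i3 : (ofSp ((yon S).obj T)).p.IsHomLift (𝟙 B) ((ofOverCat T).map g) :=
      BasedFunctor.preserves_isHomLift (ofOverCat T) (𝟙 B) g
    have i4 : (ofSp ((yon S).obj T)).p.IsHomLift (𝟙 B) k := inferInstance
    refine (IsHomLift.fac' (ofSp ((yon S).obj T)).p (𝟙 B) k).trans ?_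
    simp
    rfl
  have h4 := k.map_sec
  rw [hk] at h4
  erw [op_id, CategoryTheory.Functor.map_id] at h4
  exact h4.symm

/-- Objects of the fibre product come from sections over their base. -/
theorem exists_sec (hE : IsEquivOver E) (o : (fp z d).obj) {B : Over S} (ho : (fp z d).p.obj o = B) :
    ∃ (x : G.obj.obj (op B)) (j : E.obj ⟨B, x⟩ ≅ o), (fp z d).p.IsHomLift (𝟙 B) j.hom := by
  subst ho
  obtain ⟨⟨B', x⟩, j, hj⟩ := BasedBasic.IsEquivOver.exists_iso hE o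
  obtain rfl : B' = (fp z d).p.obj o :=
    (E.w_obj ⟨B', x⟩).symm.trans (IsHomLift.domain_eq (fp z d).p (𝟙 _) j.hom)
  exact ⟨x, j, hj⟩

end Sections

/-- The inclusion of a closed subscheme given by a surjection of rings. -/
abbrev incl {A A₀ : Type u} [CommRing A] [CommRing A₀] (φ : A →+* A₀) (sA : Spec (CommRingCat.of A) ⟶ S) :
    Over.mk (Spec.map (CommRingCat.ofHom φ) ≫ sA) ⟶ Over.mk sA :=
  Over.homMk (Spec.map (CommRingCat.ofHom φ)) rfl

/-- No infinitesimal automorphisms, on objects. -/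
def NoInfAut (f : 𝒳 ⥤ᵇ 𝒴) : Prop :=
  ∀ (A A₀ : Type u) [CommRing A] [IsArtinianRing A] [IsLocalRing A] [CommRing A₀] [IsLocalRing A₀]
    (φ : A →+* A₀) (_ : Function.Surjective φ) (_ : IsSimpleModule A (RingHom.ker φ))
    (sA : Spec (CommRingCat.of A) ⟶ S) (a c : 𝒳.obj) (θ : a ⟶ a) (χ : c ⟶ a),
    𝒳.p.IsHomLift (𝟙 (Over.mk sA)) θ → f.map θ = 𝟙 (f.obj a) →
    𝒳.p.IsHomLift (incl φ sA) χ → χ ≫ θ = χ → θ = 𝟙 a

theorem diag_lft {J₀ : Precoverage Scheme.{u}} (h𝒳 : IsAlgStack J₀ 𝒳) (h𝒴 : IsAlgStack J₀ 𝒴) (f : 𝒳 ⥤ᵇ 𝒴) :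
    RepByAlgSpWith (LocP @LocallyOfFiniteType) (diag f) := by
  have h1 : RepByAlgSpWith (LocP @LocallyOfFiniteType) (diag (BasedFunctor.comp f (toSelf 𝒴))) :=
    (Sep.Rep.diag_iff_of_isEquivOver BasedBasic.isEquivOver_id BasedBasic.isEquivOver_id
      (f := BasedFunctor.comp f (toSelf 𝒴)) (f' := toSelf 𝒳)
      (Lib.Fibred.Slice.selfIso _ _)).2 (Sep.Lft.diag_toSelf_lft h𝒳)
  exact Sep.Main.diag_of_comp h𝒳.isStack.1 h𝒴.isStack.1 Sep.Main2.isFibGrpd_self Sep.Main.good_lft.bc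
    Sep.Main.good_lft.fs Sep.Main.good_lft.comp h1 (Sep.Main.diag_lft (Sep.Main2.diag_cmp_rep1 h𝒴.diag))

/-- Without infinitesimal automorphisms the morphism is DM. -/
theorem isDMMor {f : 𝒳 ⥤ᵇ 𝒴} (h : IsFibGrpd 𝒳.p) (hl : RepByAlgSpWith (LocP @LocallyOfFiniteType) (diag f))
    (hc : NoInfAut f) : AlgSt.IsDMMor f := fun T z => by
  obtain ⟨G, E, hE, hlG⟩ := hl T z
  refine ⟨G, E, hE, ?_⟩
  let γ := AlgSt.spMapOfOver (BasedFunctor.comp E (fpFst z (diag f)))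
  obtain ⟨W, a, ha, has⟩ := G.property.atlas
  obtain ⟨m, hm⟩ := (yon S).map_surjective (a ≫ γ)
  refine Lib.AlgSpMor.LocP.locP_of_chart Lib.AlgSpMor.LocP.unramified G.property.diag (IsAlgSpace.yon_obj T).diag
    ha has (b := 𝟙 _) (h := m) (AlgSp.repWith_id _ _) (by rw [Category.comp_id, hm]) ?_
  have : LocallyOfFiniteType m.left := hlG a (𝟙 _) m ha (AlgSp.repWith_id _ _) (by rw [Category.comp_id, hm])
  refine ⟨‹_›, formallyUnramified_of_dual m.left fun K _ g g' e1 e2 => ?_⟩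
  have := isArtinianRing_dual K
  have := isLocalRing_dual K
  let sA : Spec (CommRingCat.of (DualNumber K)) ⟶ S := g ≫ W.hom
  let Q : Over S := Over.mk sA
  let g₁ : Q ⟶ W := Over.homMk g
  let g₂ : Q ⟶ W := Over.homMk g' (by
    change g' ≫ W.hom = g ≫ W.hom
    rw [← Over.w m, reassoc_of% e1])
  let j := incl (dualFst K) sA
  have hj : j ≫ g₁ = j ≫ g₂ := Over.OverMorphism.ext e2
  let l₁ := (yon S).map g₁ ≫ a
  let l₂ := (yon S).map g₂ ≫ a
  have hT : g₁ ≫ m = g₂ ≫ m := Over.OverMorphism.ext e1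
  have hγ : l₁ ≫ γ = l₂ ≫ γ := by
    simp only [l₁, l₂, Category.assoc]
    rw [← hm, ← Functor.map_comp, ← Functor.map_comp, hT]
  have hr : (yon S).map j ≫ l₁ = (yon S).map j ≫ l₂ := by
    simp only [l₁, l₂]
    rw [← Functor.map_comp_assoc, ← Functor.map_comp_assoc, hj]
  have hx : l₁ = l₂ := by
    apply (secEquiv Q).injective
    refine sec_eq hE ?_ fun k hk => ?_
    · rw [← secEquiv_comp, ← secEquiv_comp]
      exact congrArg _ hγ
    let ξ₁ : (ofSp G.obj).obj := ⟨Q, secEquiv Q l₁⟩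
    let ξ₂ : (ofSp G.obj).obj := ⟨Q, secEquiv Q l₂⟩
    let ξ₀ : (ofSp G.obj).obj :=
      ⟨Over.mk (Spec.map (CommRingCat.ofHom (dualFst K)) ≫ sA), secEquiv _ ((yon S).map j ≫ l₁)⟩
    let n₁ : ξ₀ ⟶ ξ₁ := ⟨j, (secEquiv_map j l₁).symm⟩
    let n₂ : ξ₀ ⟶ ξ₂ := ⟨j, ((secEquiv_map j l₂).symm.trans (congrArg _ hr.symm))⟩
    let Z := fp z (diag f)
    have hn₁ : Z.p.IsHomLift j (E.map n₁) :=
      have : (ofSp G.obj).p.IsHomLift j n₁ := IsHomLift.map (ofSp G.obj).p n₁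
      BasedFunctor.preserves_isHomLift E j n₁
    have hn₂ : Z.p.IsHomLift j (E.map n₂) :=
      have : (ofSp G.obj).p.IsHomLift j n₂ := IsHomLift.map (ofSp G.obj).p n₂
      BasedFunctor.preserves_isHomLift E j n₂
    have f₁ : (overCat T).p.IsHomLift j (E.map n₁).hom.fst :=
      BasedFunctor.preserves_isHomLift (fpFst z (diag f)) j (E.map n₁)
    have f₂ : (overCat T).p.IsHomLift j (E.map n₂).hom.fst :=
      BasedFunctor.preserves_isHomLift (fpFst z (diag f)) j (E.map n₂)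
    have s₁ : 𝒳.p.IsHomLift j (E.map n₁).hom.snd :=
      BasedFunctor.preserves_isHomLift (fpSnd z (diag f)) j (E.map n₁)
    have hfst : (E.map n₁).hom.fst ≫ k = (E.map n₂).hom.fst := by
      have i : (overCat T).p.IsHomLift (j ≫ 𝟙 Q) ((E.map n₁).hom.fst ≫ k) := inferInstance
      rw [Category.comp_id] at i
      exact Over.OverMorphism.ext ((IsHomLift.fac' (overCat T).p j ((E.map n₁).hom.fst ≫ k)).trans
        (IsHomLift.fac' (overCat T).p j (E.map n₂).hom.fst).symm)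
    let ψ := (E.obj ξ₁).obj.iso.inv ≫ z.map k ≫ (E.obj ξ₂).obj.iso.hom
    have hψ : (fp f f).p.IsHomLift (𝟙 Q) ψ := by
      have p1 : (E.obj ξ₁).obj.fst.left = Q := E.w_obj ξ₁
      have p2 : (E.obj ξ₂).obj.fst.left = Q := E.w_obj ξ₂
      have i1 : (fp f f).p.IsHomLift (𝟙 Q) (E.obj ξ₁).obj.iso.hom := p1 ▸ (E.obj ξ₁).property
      have i2 : (fp f f).p.IsHomLift (𝟙 Q) (E.obj ξ₂).obj.iso.hom := p2 ▸ (E.obj ξ₂).property
      have i3 : (fp f f).p.IsHomLift (𝟙 Q) (E.obj ξ₁).obj.iso.inv := IsHomLift.lift_id_inv _ _ _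
      have i4 : (fp f f).p.IsHomLift (𝟙 Q) (z.map k) := BasedFunctor.preserves_isHomLift z (𝟙 Q) k
      infer_instance
    have hψ₁ : 𝒳.p.IsHomLift (𝟙 Q) ψ.hom.fst := BasedFunctor.preserves_isHomLift (fpFst f f) (𝟙 Q) ψ
    have hψ₂ : 𝒳.p.IsHomLift (𝟙 Q) ψ.hom.snd := BasedFunctor.preserves_isHomLift (fpSnd f f) (𝟙 Q) ψ
    have := isIso_of_isHomLift_id h (R := Q) ψ.hom.fst
    have hw : f.map ψ.hom.fst = f.map ψ.hom.snd :=
      (Category.comp_id _).symm.trans (ψ.hom.w.trans (Category.id_comp _))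
    have hd : (diag f).map (E.map n₁).hom.snd ≫ ψ = (diag f).map (E.map n₂).hom.snd := by
      have w₁ : z.map (E.map n₁).hom.fst ≫ (E.obj ξ₁).obj.iso.hom =
          (E.obj ξ₀).obj.iso.hom ≫ (diag f).map (E.map n₁).hom.snd := (E.map n₁).hom.w
      have w₂ : z.map (E.map n₂).hom.fst ≫ (E.obj ξ₂).obj.iso.hom =
          (E.obj ξ₀).obj.iso.hom ≫ (diag f).map (E.map n₂).hom.snd := (E.map n₂).hom.w
      rw [← cancel_epi (E.obj ξ₀).obj.iso.hom, ← reassoc_of% w₁, ← w₂, ← hfst, Functor.map_comp]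
      simp [ψ]
    have hd₁ : (E.map n₁).hom.snd ≫ ψ.hom.fst = (E.map n₂).hom.snd := congrArg (fun t => t.hom.fst) hd
    have hd₂ : (E.map n₁).hom.snd ≫ ψ.hom.snd = (E.map n₂).hom.snd := congrArg (fun t => t.hom.snd) hd
    have hθl : 𝒳.p.IsHomLift (𝟙 Q) (inv ψ.hom.fst ≫ ψ.hom.snd) := by
      have : 𝒳.p.IsHomLift (𝟙 Q) (inv ψ.hom.fst) := IsHomLift.lift_id_inv_isIso 𝒳.p Q ψ.hom.fst
      infer_instance
    have hχ : 𝒳.p.IsHomLift j ((E.map n₁).hom.snd ≫ ψ.hom.fst) := by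
      have : 𝒳.p.IsHomLift (j ≫ 𝟙 Q) ((E.map n₁).hom.snd ≫ ψ.hom.fst) := inferInstance
      rwa [Category.comp_id] at this
    have hfix : ((E.map n₁).hom.snd ≫ ψ.hom.fst) ≫ (inv ψ.hom.fst ≫ ψ.hom.snd) =
        (E.map n₁).hom.snd ≫ ψ.hom.fst := by
      rw [Category.assoc, IsIso.hom_inv_id_assoc, hd₂, hd₁]
    have key := hc (DualNumber K) K (dualFst K) (dualFst_surjective K) (isSimpleModule_ker_dualFst K) sA
      _ _ (inv ψ.hom.fst ≫ ψ.hom.snd) ((E.map n₁).hom.snd ≫ ψ.hom.fst) hθl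
      (by rw [Functor.map_comp, Functor.map_inv, ← hw]; exact IsIso.inv_hom_id _) hχ hfix
    have he : ψ.hom.snd = ψ.hom.fst := by
      rw [IsIso.inv_comp_eq, Category.comp_id] at key
      exact key
    refine ⟨FibProd.homMk k ψ.hom.fst ?_, rfl⟩
    rw [show (diag f).map ψ.hom.fst = ψ from FibProd.hom_ext rfl he.symm]
    exact (Iso.hom_inv_id_assoc _ _).symm
  have hu : AlgSp.IsFormallyUnramifiedMor a :=
    Lib.AlgSpFormal.Yon.formallyUnramified_of_formallyEtale (Lib.AlgSpFormal.Yon.isFormallyEtaleMor_of_etale ha)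
  have hg : g₁ = g₂ := (yon S).map_injective (eq_of_formallyUnramified hu (dualFst K) (dualFst_surjective K)
    (ker_sq_eq_bot (dualFst K) (isSimpleModule_ker_dualFst K)) sA j (𝟙 _) (Category.id_comp _) _ _
    (by rw [← Functor.map_comp, ← Functor.map_comp, hj]) hx)
  exact congrArg (fun t : Q ⟶ W => t.left) hg

/-- A DM morphism has no infinitesimal automorphisms. -/
theorem noInfAut {f : 𝒳 ⥤ᵇ 𝒴} (h : IsFibGrpd 𝒳.p) (hf : AlgSt.IsDMMor f) : NoInfAut f := by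
  intro A A₀ _ _ _ _ _ φ hφ hs sA a c θ χ hθ hfθ hχ hfix
  let Q : Over S := Over.mk sA
  let Q₀ : Over S := Over.mk (Spec.map (CommRingCat.ofHom φ) ≫ sA)
  let j : Q₀ ⟶ Q := incl φ sA
  have hθ' : 𝒳.p.IsHomLift (𝟙 Q) θ := hθ
  have hχ' : 𝒳.p.IsHomLift j χ := hχ
  have hθi := isIso_of_isHomLift_id h (R := Q) θ
  have ha : 𝒳.p.obj a = Q := IsHomLift.domain_eq 𝒳.p (𝟙 Q) θ
  let y := fromObj h ha
  obtain ⟨i, hi⟩ := exists_fromObj_iso h ha
  let z := BasedFunctor.comp y (diag f)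
  let τ : (diag f).obj a ≅ (diag f).obj a :=
    { hom := FibProd.homMk (𝟙 a) θ (by
        change f.map (𝟙 a) ≫ 𝟙 _ = 𝟙 _ ≫ f.map θ
        rw [hfθ, CategoryTheory.Functor.map_id])
      inv := FibProd.homMk (𝟙 a) (inv θ) (by
        change f.map (𝟙 a) ≫ 𝟙 _ = 𝟙 _ ≫ f.map (inv θ)
        rw [Functor.map_inv, CategoryTheory.Functor.map_id]
        simp [hfθ])
      hom_inv_id := FibProd.hom_ext (Category.id_comp _) (IsIso.hom_inv_id θ)
      inv_hom_id := FibProd.hom_ext (Category.id_comp _) (IsIso.inv_hom_id θ) }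
  let i₁ := (diag f).toFunctor.mapIso i
  have hi₁ : (fp f f).p.IsHomLift (𝟙 Q) i₁.hom := BasedFunctor.preserves_isHomLift (diag f) (𝟙 Q) i.hom
  have hτ : (fp f f).p.IsHomLift (𝟙 Q) τ.hom :=
    IsHomLift.of_fac' _ _ _ ha ha ((CategoryTheory.Functor.map_id 𝒳.p a).trans (by simp; rfl))
  let o₁ : (fp z (diag f)).obj := FibProd.objMk (Over.mk (𝟙 Q)) a i₁ hi₁
  let o₂ : (fp z (diag f)).obj := FibProd.objMk (Over.mk (𝟙 Q)) a (i₁ ≪≫ τ) (by
    have : (fp f f).p.IsHomLift (𝟙 Q) (i₁.hom ≫ τ.hom) := inferInstance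
    exact this)
  obtain ⟨G, E, hE, hu⟩ := hf Q z
  let γ := AlgSt.spMapOfOver (BasedFunctor.comp E (fpFst z (diag f)))
  have hγu : AlgSp.IsFormallyUnramifiedMor γ :=
    (Lib.AlgSpFormal.Charts.formallyUnramified_iff G.property (IsAlgSpace.yon_obj Q) γ).2
      fun U V p q k h1 h2 w => (hu p q k h1 h2 w).2
  have := BasedBasic.IsEquivOver.full hE
  let Z := fp z (diag f)
  obtain ⟨x₁, j₁, hj₁⟩ := exists_sec hE o₁ (B := Q) rfl
  obtain ⟨x₂, j₂, hj₂⟩ := exists_sec hE o₂ (B := Q) rfl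
  have hj₁' : Z.p.IsHomLift (𝟙 Q) j₁.hom := hj₁
  have hj₂' : Z.p.IsHomLift (𝟙 Q) j₂.hom := hj₂
  have hj₁i : Z.p.IsHomLift (𝟙 Q) j₁.inv := IsHomLift.lift_id_inv _ _ _
  have hj₂i : Z.p.IsHomLift (𝟙 Q) j₂.inv := IsHomLift.lift_id_inv _ _ _
  have hγ : γ.hom.app (op Q) x₁ = γ.hom.app (op Q) x₂ := by
    refine map_eq_of_vertical (j₁.hom.hom.fst ≫ j₂.inv.hom.fst) ?_
    have h1 : (overCat Q).p.IsHomLift (𝟙 Q) j₁.hom.hom.fst :=
      BasedFunctor.preserves_isHomLift (fpFst z (diag f)) (𝟙 Q) j₁.hom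
    have h2 : (overCat Q).p.IsHomLift (𝟙 Q) j₂.inv.hom.fst :=
      BasedFunctor.preserves_isHomLift (fpFst z (diag f)) (𝟙 Q) j₂.inv
    infer_instance
  have hl : 𝒳.p.IsHomLift j (y.map (toId (Over.mk j)) ≫ i.hom) := by
    have : 𝒳.p.IsHomLift j (y.map (toId (Over.mk j))) := map_toId_isHomLift y (Over.mk j)
    have : 𝒳.p.IsHomLift (j ≫ 𝟙 Q) (y.map (toId (Over.mk j)) ≫ i.hom) := inferInstance
    rwa [Category.comp_id] at this
  obtain ⟨ν, hν, hνe⟩ := Lib.Fibred.Descent.exists_factor h χ hχ' _ hl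
  have := isIso_of_isHomLift_id h (R := Q₀) ν
  let o' : Z.obj := FibProd.objMk (Over.mk j) c ((diag f).toFunctor.mapIso (asIso ν))
    (BasedFunctor.preserves_isHomLift (diag f) (𝟙 Q₀) ν)
  let q₁ : o' ⟶ o₁ := FibProd.homMk (toId (Over.mk j)) χ (by
    change (diag f).map (y.map (toId (Over.mk j))) ≫ (diag f).map i.hom = (diag f).map ν ≫ (diag f).map χ
    rw [← Functor.map_comp, ← Functor.map_comp, hνe])
  let q₂ : o' ⟶ o₂ := FibProd.homMk (toId (Over.mk j)) χ (by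
    change (diag f).map (y.map (toId (Over.mk j))) ≫ (diag f).map i.hom ≫ τ.hom =
      (diag f).map ν ≫ (diag f).map χ
    rw [← Category.assoc, ← Functor.map_comp, ← Functor.map_comp, ← hνe]
    refine FibProd.hom_ext ?_ ?_
    · exact Category.comp_id _
    · change (ν ≫ χ) ≫ θ = ν ≫ χ
      rw [Category.assoc, hfix])
  obtain ⟨x', j', hj'⟩ := exists_sec hE o' (B := Q₀) rfl
  have hj'' : Z.p.IsHomLift (𝟙 Q₀) j'.hom := hj'
  have key : ∀ {x : G.obj.obj.obj (op Q)} {o : Z.obj} (k : E.obj ⟨Q, x⟩ ≅ o) (q : o' ⟶ o),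
      Z.p.IsHomLift (𝟙 Q) k.inv → Z.p.IsHomLift j q → G.obj.obj.map j.op x = x' := by
    intro x o k q hk hq
    obtain ⟨n, hn⟩ := E.toFunctor.map_surjective (j'.hom ≫ q ≫ k.inv)
    have h1 : Z.p.IsHomLift (𝟙 Q₀ ≫ j ≫ 𝟙 Q) (E.map n) := by rw [hn]; infer_instance
    rw [Category.id_comp, Category.comp_id] at h1
    have h2 : (ofSp G.obj).p.IsHomLift j n := (E.isHomLift_iff j n).1 h1
    have h3 : n.hom = j := (IsHomLift.fac' (ofSp G.obj).p j n).trans (by simp)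
    rw [← h3]
    exact n.map_sec
  have hq₁ : Z.p.IsHomLift j q₁ := IsHomLift.of_fac' _ _ _ rfl rfl (by simp; rfl)
  have hq₂ : Z.p.IsHomLift j q₂ := IsHomLift.of_fac' _ _ _ rfl rfl (by simp; rfl)
  have hr := (key j₁ q₁ hj₁i hq₁).trans (key j₂ q₂ hj₂i hq₂).symm
  have hx : x₁ = x₂ := (secEquiv Q).symm.injective (eq_of_formallyUnramified hγu φ hφ
    (ker_sq_eq_bot φ hs) sA j (𝟙 _) (Category.id_comp _) _ _
    ((yon_map_comp_secEquiv_symm j x₁).trans ((congrArg _ hr).trans (yon_map_comp_secEquiv_symm j x₂).symm))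
    ((secEquiv_symm_comp _ _).trans ((congrArg _ hγ).trans (secEquiv_symm_comp _ _).symm)))
  subst hx
  let M : o₁ ⟶ o₂ := j₁.inv ≫ j₂.hom
  have hM : Z.p.IsHomLift (𝟙 Q) M := inferInstance
  have hM1 : M.hom.fst = 𝟙 (Over.mk (𝟙 Q)) :=
    Over.OverMorphism.ext (IsHomLift.fac' Z.p (𝟙 Q) M |>.trans (by simp; rfl))
  have w := M.hom.w
  rw [hM1, CategoryTheory.Functor.map_id, Category.id_comp] at w
  have w1 : i.hom ≫ 𝟙 a = i.hom ≫ M.hom.snd := congrArg (fun k => k.hom.fst) w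
  have w2 : i.hom ≫ θ = i.hom ≫ M.hom.snd := congrArg (fun k => k.hom.snd) w
  exact (cancel_epi i.hom).1 (w2.trans w1.symm)

/-- The functorial form of the criterion. -/
theorem noInfAut_iff {f : 𝒳 ⥤ᵇ 𝒴} (h : IsFibGrpd 𝒳.p) (h' : IsFibGrpd 𝒴.p) :
    NoInfAut f ↔
      ∀ (A A₀ : Type u) [CommRing A] [IsArtinianRing A] [IsLocalRing A] [CommRing A₀] [IsLocalRing A₀]
        (φ : A →+* A₀) (_ : Function.Surjective φ) (_ : IsSimpleModule A (RingHom.ker φ))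
        (sA : Spec (CommRingCat.of A) ⟶ S) (xt : overCat (Over.mk sA) ⥤ᵇ 𝒳) (Θ : xt ≅ xt),
        BasedCategory.whiskerLeft (AlgSt.overMap (incl φ sA)) Θ.hom =
          𝟙 (BasedFunctor.comp (AlgSt.overMap (incl φ sA)) xt) →
        BasedCategory.whiskerRight Θ.hom f = 𝟙 (BasedFunctor.comp xt f) →
        Θ.hom = 𝟙 xt := by
  constructor
  · intro hc A A₀ _ _ _ _ _ φ hφ hs sA xt Θ h1 h2
    let Q : Over S := Over.mk sA
    let o : (overCat Q).obj := Over.mk (𝟙 Q)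
    let o' : (overCat Q).obj := (AlgSt.overMap (incl φ sA)).obj (Over.mk (𝟙 _))
    have e1 : (appIso Θ o').hom = 𝟙 _ := congrArg (fun t => t.toNatTrans.app (Over.mk (𝟙 _))) h1
    have e2 : f.map (appIso Θ o).hom = 𝟙 _ := congrArg (fun t => t.toNatTrans.app o) h2
    have n := Θ.hom.toNatTrans.naturality (toId o')
    have hθ : 𝒳.p.IsHomLift (𝟙 Q) (appIso Θ o).hom := appIso_isHomLift Θ o
    have hχ : 𝒳.p.IsHomLift (incl φ sA) (xt.map (toId o')) := by
      have hm := map_toId_isHomLift xt o'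
      have e : o'.hom = incl φ sA := Category.id_comp _
      exact e ▸ hm
    have hfix : xt.map (toId o') ≫ (appIso Θ o).hom = xt.map (toId o') :=
      n.trans ((congrArg (· ≫ xt.map (toId o')) e1).trans (Category.id_comp _))
    have hz : (appIso Θ o).hom = 𝟙 _ := hc A A₀ φ hφ hs sA _ _ _ _ hθ e2 hχ hfix
    refine BasedNatTrans.ext _ _ (NatTrans.ext (funext fun p => ?_))
    have hp : 𝒳.p.IsHomLift (𝟙 p.left) (appIso Θ p).hom := appIso_isHomLift Θ p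
    refine Lib.Fibred.Descent.ext_lift h (xt.map (toId p)) (f := p.hom) (map_toId_isHomLift xt p)
      (g := 𝟙 p.left) hp (IsHomLift.id (xt.w_obj p)) ?_
    exact ((Θ.hom.toNatTrans.naturality (toId p)).symm.trans
      ((congrArg (xt.map (toId p) ≫ ·) hz).trans (Category.comp_id _))).trans (Category.id_comp _).symm
  · intro H A A₀ _ _ _ _ _ φ hφ hs sA a c θ χ hθ hfθ hχ hfix
    let Q : Over S := Over.mk sA
    have hθ' : 𝒳.p.IsHomLift (𝟙 Q) θ := hθ
    have := isIso_of_isHomLift_id h (R := Q) θ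
    have ha : 𝒳.p.obj a = Q := IsHomLift.domain_eq 𝒳.p (𝟙 Q) θ
    obtain ⟨i, hi⟩ := exists_fromObj_iso h ha
    let xt := fromObj h ha
    let o : (overCat Q).obj := Over.mk (𝟙 Q)
    have hi' : 𝒳.p.IsHomLift (𝟙 Q) i.inv := IsHomLift.lift_id_inv _ _ _
    have : 𝒳.p.IsHomLift (𝟙 Q) (i.hom ≫ θ ≫ i.inv) := inferInstance
    obtain ⟨Θ, hΘ⟩ := exists_iso_of_id h xt xt (i.hom ≫ θ ≫ i.inv)
    have nat : ∀ p : Over Q, xt.map (toId p) ≫ (i.hom ≫ θ ≫ i.inv) = (appIso Θ p).hom ≫ xt.map (toId p) :=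
      fun p => hΘ ▸ Θ.hom.toNatTrans.naturality (toId p)
    have e := H A A₀ φ hφ hs sA xt Θ ?_ ?_
    · have e' : i.hom ≫ θ ≫ i.inv = 𝟙 _ := hΘ.symm.trans (congrArg (fun t => t.toNatTrans.app o) e)
      rw [← Iso.eq_inv_comp, Category.comp_id, Iso.comp_inv_eq, Iso.inv_hom_id] at e'
      exact e'
    · refine BasedNatTrans.ext _ _ (NatTrans.ext (funext fun r => ?_))
      let p : Over Q := (AlgSt.overMap (incl φ sA)).obj r
      have hr : 𝒳.p.IsHomLift p.hom (xt.map (toId p)) := map_toId_isHomLift xt p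
      refine Lib.Fibred.Descent.ext_lift h (xt.map (toId p)) (f := p.hom) hr
        (g := 𝟙 p.left) (appIso_isHomLift Θ p) (IsHomLift.id (xt.w_obj p)) ?_
      refine (nat p).symm.trans (Eq.trans ?_ (Category.id_comp _).symm)
      have hl : 𝒳.p.IsHomLift (r.hom ≫ incl φ sA) (xt.map (toId p) ≫ i.hom) := by
        have : 𝒳.p.IsHomLift (p.hom ≫ 𝟙 Q) (xt.map (toId p) ≫ i.hom) := inferInstance
        rwa [Category.comp_id] at this
      obtain ⟨c', ω, hω⟩ := Lib.Fibred.Descent.exists_lift h (x := c) (IsHomLift.domain_eq 𝒳.p (incl φ sA) χ) r.hom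
      have hωχ : 𝒳.p.IsHomLift (r.hom ≫ incl φ sA) (ω ≫ χ) := inferInstance
      obtain ⟨ν, hν, hνe⟩ := Lib.Fibred.Descent.exists_factor h (ω ≫ χ) hωχ _ hl
      rw [← reassoc_of% hνe, reassoc_of% hfix, reassoc_of% hνe, i.hom_inv_id]
      exact Category.comp_id _
    · refine BasedNatTrans.ext _ _ (NatTrans.ext (funext fun p => ?_))
      change f.map (appIso Θ p).hom = 𝟙 (f.obj (xt.obj p))
      have l1 : 𝒴.p.IsHomLift (𝟙 p.left) (f.map (appIso Θ p).hom) :=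
        have : 𝒳.p.IsHomLift (𝟙 p.left) (appIso Θ p).hom := appIso_isHomLift Θ p
        BasedFunctor.preserves_isHomLift f (𝟙 p.left) _
      have l2 : 𝒴.p.IsHomLift p.hom (f.map (xt.map (toId p))) :=
        have : 𝒳.p.IsHomLift p.hom (xt.map (toId p)) := map_toId_isHomLift xt p
        BasedFunctor.preserves_isHomLift f p.hom _
      refine Lib.Fibred.Descent.ext_lift h' (f.map (xt.map (toId p))) (f := p.hom) l2
        (g := 𝟙 p.left) l1 (IsHomLift.id ((f.w_obj _).trans (xt.w_obj p))) ?_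
      rw [← f.toFunctor.map_comp, ← nat p, f.toFunctor.map_comp, f.toFunctor.map_comp, f.toFunctor.map_comp,
        hfθ, Category.id_comp]
      simp only [← f.toFunctor.map_comp, Iso.hom_inv_id, Category.comp_id]
      exact (Category.id_comp _).symm

/-- The infinitesimal criterion. -/
theorem isDMMor_iff {J₀ : Precoverage Scheme.{u}} (h𝒳 : IsAlgStack J₀ 𝒳) (h𝒴 : IsAlgStack J₀ 𝒴) (f : 𝒳 ⥤ᵇ 𝒴) :
    AlgSt.IsDMMor f ↔ NoInfAut f :=
  ⟨noInfAut h𝒳.isStack.1, isDMMor h𝒳.isStack.1 (diag_lft h𝒳 h𝒴 f)⟩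

end Groth.Agent.H14.DMCrit
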