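import Groth.Prelude.Def_AlgSpInf
import Mathlib.AlgebraicGeometry.Morphisms.FormallyUnramified
import Mathlib.Algebra.DualNumber
import Mathlib.RingTheory.HopkinsLevitzki
import Mathlib.RingTheory.LocalRing.Module

/-!
# Formal unramifiedness from dual numbers
-/

set_option autoImplicit false

universe u

open CategoryTheory AlgebraicGeometry AlgSp
open scoped TensorProduct

namespace Groth.Agent.H14.DMCrit

/-- The projection of the dual numbers. -/
abbrev dualFst (K : Type u) [Field K] : DualNumber K →+* K :=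
  (TrivSqZeroExt.fstHom K K K).toRingHom

theorem dualFst_surjective (K : Type u) [Field K] : Function.Surjective (dualFst K) :=
  fun c => ⟨TrivSqZeroExt.inl c, TrivSqZeroExt.fst_inl K c⟩

theorem isArtinianRing_dual (K : Type u) [Field K] : IsArtinianRing (DualNumber K) :=
  have : Module.Finite K (DualNumber K) := (inferInstance : Module.Finite K (K × K))
  IsArtinianRing.of_finite K (DualNumber K)

theorem isLocalRing_dual (K : Type u) [Field K] : IsLocalRing (DualNumber K) :=
  IsLocalRing.of_isUnit_or_isUnit_one_sub_self fun x => by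
    rw [TrivSqZeroExt.isUnit_iff_isUnit_fst, TrivSqZeroExt.isUnit_iff_isUnit_fst,
      TrivSqZeroExt.fst_sub, TrivSqZeroExt.fst_one]
    exact IsLocalRing.isUnit_or_isUnit_one_sub_self x.fst

theorem isSimpleModule_ker_dualFst (K : Type u) [Field K] :
    IsSimpleModule (DualNumber K) (RingHom.ker (dualFst K)) := by
  rw [isSimpleModule_iff_toSpanSingleton_surjective]
  refine ⟨⟨⟨⟨TrivSqZeroExt.inr 1, TrivSqZeroExt.fst_inr K 1⟩, 0, fun e => ?_⟩⟩, fun x hx y => ?_⟩
  · exact one_ne_zero (congrArg (fun z : RingHom.ker (dualFst K) => TrivSqZeroExt.snd (z : DualNumber K)) e)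
  · have hxf : TrivSqZeroExt.fst (x : DualNumber K) = 0 := x.2
    have hyf : TrivSqZeroExt.fst (y : DualNumber K) = 0 := y.2
    have hxs : TrivSqZeroExt.snd (x : DualNumber K) ≠ 0 := fun e =>
      hx (Subtype.ext (TrivSqZeroExt.ext hxf e))
    refine ⟨TrivSqZeroExt.inl (TrivSqZeroExt.snd (y : DualNumber K) / TrivSqZeroExt.snd (x : DualNumber K)),
      Subtype.ext (TrivSqZeroExt.ext ?_ ?_)⟩
    · change TrivSqZeroExt.fst (TrivSqZeroExt.inl _ * (x : DualNumber K)) = _
      simp [hxf, hyf]
    · change TrivSqZeroExt.snd (TrivSqZeroExt.inl _ * (x : DualNumber K)) = _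
      simp [hxf, div_mul_cancel₀ _ hxs]

/-- An algebra is unramified when tangent vectors at all primes vanish. -/
theorem algebra_formallyUnramified (R A : Type u) [CommRing R] [CommRing A] [Algebra R A]
    [Algebra.EssFiniteType R A]
    (H : ∀ (K : Type u) [Field K] (g g' : A →+* DualNumber K),
      g.comp (algebraMap R A) = g'.comp (algebraMap R A) →
      (dualFst K).comp g = (dualFst K).comp g' → g = g') :
    Algebra.FormallyUnramified R A := by
  refine (Algebra.formallyUnramified_iff R A).2 ?_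
  rw [← Module.support_eq_empty_iff (R := A)]
  by_contra hne
  obtain ⟨q, hq⟩ := Set.nonempty_iff_ne_empty.2 hne
  rw [Module.mem_support_iff_nontrivial_residueField_tensorProduct] at hq
  let L := q.asIdeal.ResidueField
  obtain ⟨v, hv⟩ := exists_ne (0 : L ⊗[A] Ω[A⁄R])
  obtain ⟨φ, hφ⟩ := Module.Projective.exists_dual_ne_zero L hv
  let ψ : Ω[A⁄R] →ₗ[A] L := (φ.restrictScalars A).comp (TensorProduct.mk A L Ω[A⁄R] 1)
  let d : Derivation R A L := ψ.compDer (KaehlerDifferential.D R A)
  let g₁ : A →+* DualNumber L := (TrivSqZeroExt.inlHom L L).comp (algebraMap A L)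
  let g₂ : A →+* DualNumber L :=
    { toFun := fun b => TrivSqZeroExt.inl (algebraMap A L b) + TrivSqZeroExt.inr (d b)
      map_one' := by
        rw [d.map_one_eq_zero, TrivSqZeroExt.inr_zero, add_zero, map_one, TrivSqZeroExt.inl_one]
      map_zero' := by
        rw [map_zero d, TrivSqZeroExt.inr_zero, add_zero, map_zero, TrivSqZeroExt.inl_zero]
      map_add' := fun x y => by
        rw [map_add, map_add, TrivSqZeroExt.inl_add, TrivSqZeroExt.inr_add]
        abel
      map_mul' := fun x y => by
        refine TrivSqZeroExt.ext ?_ ?_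
        · simp
          ring
        · simp [Algebra.smul_def, op_smul_eq_smul]
          try ring }
  have hg₁ : ∀ b, g₁ b = TrivSqZeroExt.inl (algebraMap A L b) := fun _ => rfl
  have hg₂ : ∀ b, g₂ b = TrivSqZeroExt.inl (algebraMap A L b) + TrivSqZeroExt.inr (d b) := fun _ => rfl
  have hd : ∀ b, d b = 0 := fun b => by
    have e := congrArg TrivSqZeroExt.snd (RingHom.congr_fun (H L g₂ g₁ (RingHom.ext fun r => by
      rw [RingHom.comp_apply, RingHom.comp_apply, hg₂, hg₁, d.map_algebraMap, TrivSqZeroExt.inr_zero,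
        add_zero]) (RingHom.ext fun x => by
      simp [hg₁, hg₂])) b)
    simpa [hg₁, hg₂] using e
  have hψ : ψ = 0 := (KaehlerDifferential.linearMapEquivDerivation R A).injective
    (Derivation.ext fun b => (hd b).trans rfl)
  apply hφ
  clear hv hφ
  induction v using TensorProduct.induction_on with
  | zero => exact map_zero _
  | tmul c m =>
    rw [show c = c • (1 : L) by rw [smul_eq_mul, mul_one], ← TensorProduct.smul_tmul', map_smul]
    exact (congrArg (c • ·) (LinearMap.congr_fun hψ m)).trans (smul_zero c)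
  | add a b ha hb => rw [map_add, ha, hb, add_zero]

/-- A morphism is formally unramified when tangent vectors at all points vanish. -/
theorem formallyUnramified_of_dual {X Y : Scheme.{u}} (f : X ⟶ Y) [LocallyOfFiniteType f]
    (H : ∀ (K : Type u) [Field K] (g g' : Spec (CommRingCat.of (DualNumber K)) ⟶ X), g ≫ f = g' ≫ f →
      Spec.map (CommRingCat.ofHom (dualFst K)) ≫ g = Spec.map (CommRingCat.ofHom (dualFst K)) ≫ g' →
      g = g') : FormallyUnramified f := by
  rw [HasRingHomProperty.iff_appLE (P := @FormallyUnramified)]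
  intro U V e
  have hf := f.finiteType_appLE U.2 V.2 e
  algebraize [(f.appLE U.1 V.1 e).hom]
  refine algebra_formallyUnramified _ _ fun K _ g g' h₁ h₂ => ?_
  have key := H K (Spec.map (CommRingCat.ofHom g) ≫ V.2.fromSpec) (Spec.map (CommRingCat.ofHom g') ≫ V.2.fromSpec)
    (by
      rw [Category.assoc, Category.assoc, ← IsAffineOpen.SpecMap_appLE_fromSpec f U.2 V.2 e,
        ← Spec.map_comp_assoc, ← Spec.map_comp_assoc]
      exact congrArg (fun h => Spec.map h ≫ U.2.fromSpec) (CommRingCat.hom_ext h₁))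
    (by
      rw [← Spec.map_comp_assoc, ← Spec.map_comp_assoc]
      exact congrArg (fun h => Spec.map h ≫ V.2.fromSpec) (CommRingCat.hom_ext h₂))
  have := V.2.isOpenImmersion_fromSpec
  exact congrArg CommRingCat.Hom.hom (Spec.map_injective ((cancel_mono V.2.fromSpec).1 key))

/-- A square-zero kernel from a simple kernel. -/
theorem ker_sq_eq_bot {A A₀ : Type u} [CommRing A] [CommRing A₀] [IsLocalRing A] [Nontrivial A₀]
    (φ : A →+* A₀) (hs : IsSimpleModule A (RingHom.ker φ)) : RingHom.ker φ ^ 2 = ⊥ := by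
  have hI : RingHom.ker φ ≤ IsLocalRing.maximalIdeal A := IsLocalRing.le_maximalIdeal (RingHom.ker_ne_top φ)
  rw [pow_two, eq_bot_iff, Ideal.mul_le]
  intro a ha b hb
  rw [Ideal.mem_bot]
  by_contra hne
  have hb0 : (⟨b, hb⟩ : RingHom.ker φ) ≠ 0 := fun e => hne (by
    rw [show b = 0 from congrArg Subtype.val e, mul_zero])
  obtain ⟨c, hc⟩ := (isSimpleModule_iff_toSpanSingleton_surjective.1 hs).2
    (a • ⟨b, hb⟩ : RingHom.ker φ) (fun e => hne (congrArg Subtype.val e)) ⟨b, hb⟩
  have e : c * (a * b) = b := congrArg Subtype.val hc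
  have hu : IsUnit (1 - c * a) :=
    (IsLocalRing.isUnit_or_isUnit_one_sub_self (c * a)).resolve_left fun h =>
      (IsLocalRing.mem_maximalIdeal _).1 (hI ha) (isUnit_of_mul_isUnit_right h)
  have h0 : (1 - c * a) * b = 0 := by linear_combination -e
  exact hne (by rw [hu.mul_right_eq_zero.1 h0, mul_zero])

variable {S : Scheme.{u}}

/-- Formally unramified maps detect equality along square-zero surjections. -/
theorem eq_of_formallyUnramified {F G : Sp S} {f : F ⟶ G} (hf : IsFormallyUnramifiedMor f)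
    {A A₀ : Type u} [CommRing A] [CommRing A₀] (φ : A →+* A₀) (hφ : Function.Surjective φ)
    (hsq : RingHom.ker φ ^ 2 = ⊥) (sA : Spec (CommRingCat.of A) ⟶ S)
    {T₀ : Over S} (j : T₀ ⟶ Over.mk sA) (ε : Spec (CommRingCat.of A₀) ⟶ T₀.left)
    (hε : ε ≫ j.left = Spec.map (CommRingCat.ofHom φ))
    (l l' : (yon S).obj (Over.mk sA) ⟶ F)
    (h₁ : (yon S).map j ≫ l = (yon S).map j ≫ l') (h₂ : l ≫ f = l' ≫ f) : l = l' := by
  let I := RingHom.ker φ
  let sq : InfSq f :=
    { A := A, I := I, sq_zero := hsq, str := sA, top := (yon S).map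
        (Over.homMk (Spec.map (CommRingCat.ofHom (Ideal.Quotient.mk I))) rfl :
          Over.mk (Spec.map (CommRingCat.ofHom (Ideal.Quotient.mk I)) ≫ sA) ⟶ Over.mk sA) ≫ l
      bot := l ≫ f, comm := Category.assoc _ _ _ }
  let ψ : A₀ →+* A ⧸ I := (RingHom.quotientKerEquivOfSurjective hφ).symm.toRingHom
  have hψ : ψ.comp φ = Ideal.Quotient.mk I := RingHom.ext fun a => by
    change (RingHom.quotientKerEquivOfSurjective hφ).symm (φ a) = _
    rw [RingEquiv.symm_apply_eq]
    rfl
  have hj : Spec.map (CommRingCat.ofHom ψ) ≫ ε ≫ j.left = Spec.map (CommRingCat.ofHom (Ideal.Quotient.mk I)) := by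
    rw [hε, ← Spec.map_comp]
    exact congrArg Spec.map (CommRingCat.hom_ext hψ)
  let k : Over.mk (Spec.map (CommRingCat.ofHom (Ideal.Quotient.mk I)) ≫ sA) ⟶ T₀ :=
    Over.homMk (Spec.map (CommRingCat.ofHom ψ) ≫ ε) (by
      rw [← Over.w j]
      change (Spec.map _ ≫ ε) ≫ j.left ≫ sA = _
      rw [← Category.assoc, Category.assoc _ ε, hj]
      rfl)
  have hk : k ≫ j = sq.j := Over.OverMorphism.ext ((Category.assoc _ _ _).trans hj)
  exact hf sq l l' rfl rfl (by
    change _ = (yon S).map sq.j ≫ l
    rw [← hk, Functor.map_comp, Category.assoc, Category.assoc, h₁]) h₂.symm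

end Groth.Agent.H14.DMCrit
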